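import Cfsg.Agent.H985.VZ.Frame
import Cfsg.Agent.H639.OZ.Mid

/-!
# S4842: the space `V^B` as a module of the Hecke algebra (helper200)

`E = V^B = fx ρ B`, `tau i = p_B n_i`, `TE i = q_i tau i` on `E`.
* `TE_eq` : `TE i = (1 + q_i) p_{P_i} - 1`; `quad`, `braid`, `irr`;
* `mem_fx_PJ` : `V^{P_K} = {v ∈ E | TE i v = q_i v, i ∈ K}`;
* `VU_eq` : `V^U = V^B` if `V^B ≠ 0`.
-/

set_option autoImplicit false
set_option linter.unusedSectionVars false

open Cfsg

namespace Cfsg.Agent.H200.VZ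

open CoxeterSystem Cfsg.Agent.ChevalleyStructure.CoxeterGeom Cfsg.Agent.Tits.Roots Cfsg.Agent.Tits.Core
  Cfsg.Agent.Tits.Exchange Cfsg.Agent.Nodes.Reps Cfsg.Agent.Nodes.BNOf Cfsg.Agent.Nodes.StabComb
  Cfsg.Agent.Nodes.Bruhat Cfsg.Agent.Nodes.OppDec Cfsg.Agent.Nodes.LeviDec Cfsg.Agent.H985.VZ Module
  Cfsg.Agent.H639.OZ

universe u v

variable {I W : Type*} {Y : Type u} [Fintype I] [DecidableEq I] [Group W] [Group Y] {M : CoxeterMatrix I}
  {cs : CoxeterSystem M W} {A : I → I → ℤ} {h : IsCartan M A} {p : ℕ} {T : Subgroup Y} {n : I → Y}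
  {X : (I → ℤ) → Subgroup Y}

/-! ### the parabolic subgroup of one node -/

section card

variable (R : RGD cs h p T n X) [Finite W]

include R

omit [Finite W] in
theorem rp_n_inv (i : I) : Rp cs R.nsys (cs.simple i) (n i)⁻¹ := by
  have := (rp_simple cs R.nsys i).inv
  rwa [cs.inv_simple] at this

omit [Finite W] in
theorem X_le_B' (i : I) : X (sr i) ≤ RGD.B cs h T X := RGD.X_le_B (isRoot_sr cs h i) (sr_nonneg i)

omit [Finite W] in
/-- `b n_i ∈ X_i n_i B` -/
theorem exists_mul_n (i : I) {b : Y} (hb : b ∈ RGD.B cs h T X) :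
    ∃ x ∈ X (sr i), ∃ c ∈ RGD.B cs h T X, b * n i = x * n i * c := by
  obtain ⟨v, hv, x, hx, t, ht, rfl⟩ := R.mem_B' i hb
  have h1 : x⁻¹ * v * x ∈ RGD.Sup X (RGD.PosNe cs h i) := by
    have := (Subgroup.mem_normalizer_iff.1 (R.X_le_normalizer_V i (inv_mem hx)) v).1 hv
    rwa [inv_inv] at this
  have hle : RGD.Sup X (RGD.PosNe cs h i) ≤ RGD.B cs h T X :=
    le_trans (RGD.Sup_mono (fun z hz => (⟨hz.1, hz.2.1⟩ : z ∈ RGD.Pos cs h))) RGD.U_le_B
  have h2 : (n i)⁻¹ * (x⁻¹ * v * x) * n i ∈ RGD.Sup X (RGD.PosNe cs h i) := by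
    have h3 : cj (n i)⁻¹ (RGD.Sup X (RGD.PosNe cs h i)) = RGD.Sup X (RGD.PosNe cs h i) := by
      conv_lhs => rw [← R.cj_n_V i]
      exact cj_inv_cj _ _
    rw [← h3, mem_cj]
    have h4 : (n i)⁻¹⁻¹ * ((n i)⁻¹ * (x⁻¹ * v * x) * n i) * (n i)⁻¹ = x⁻¹ * v * x := by group
    rw [h4]
    exact h1
  have h5 : (n i)⁻¹ * t * n i ∈ T := by
    have := (Subgroup.mem_normalizer_iff.1 (inv_mem (R.nsys.norm i)) t).1 ht
    rwa [inv_inv] at this
  refine ⟨x, hx, _, mul_mem (hle h2) (RGD.T_le_B h5), ?_⟩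
  group

/-- `x n_i b = x' n_i b'` only for `x = x'` -/
theorem mul_n_inj (i : I) {x x' b b' : Y} (hx : x ∈ X (sr i)) (hx' : x' ∈ X (sr i)) (hb : b ∈ RGD.B cs h T X)
    (hb' : b' ∈ RGD.B cs h T X) (e : x * n i * b = x' * n i * b') : x = x' ∧ b = b' := by
  have h1 : (n i)⁻¹ * (x'⁻¹ * x) * (n i)⁻¹⁻¹ = b' * b⁻¹ := by
    have : x'⁻¹ * x * n i * b = n i * b' := by
      rw [mul_assoc, mul_assoc, ← mul_assoc x, e]
      group
    calc (n i)⁻¹ * (x'⁻¹ * x) * (n i)⁻¹⁻¹ = (n i)⁻¹ * (x'⁻¹ * x * n i * b) * b⁻¹ := by group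
      _ = b' * b⁻¹ := by rw [this]; group
  have h2 := eq_one_of_conj_mem_B R (mul_mem (inv_mem hx') hx) (rp_n_inv R i) (by rw [h1]; exact mul_mem hb' (inv_mem hb))
  have h3 : x = x' := (inv_mul_eq_one.1 h2).symm
  subst h3
  exact ⟨rfl, mul_left_cancel (by rwa [mul_assoc, mul_assoc] at e)⟩

omit [Finite W] in
theorem n_not_mem_B [Finite W] (i : I) : n i ∉ RGD.B cs h T X := by
  intro h1
  have h2 := R.eq_one_of_mem_B (rp_simple cs R.nsys i) h1
  have h3 := cs.length_simple i
  rw [h2, cs.length_one] at h3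
  exact absurd h3 (by decide)

omit R [Finite W] in
theorem WJ_singleton {i : I} {w : W} (hw : w ∈ WJ cs {i}) : w = 1 ∨ w = cs.simple i := by
  obtain ⟨ω, hω, rfl⟩ := exists_word_of_mem_WJ cs hw
  clear hw
  induction ω with
  | nil => exact Or.inl (wordProd_nil cs)
  | cons j ω ih =>
    have h1 : j = i := hω j (by simp)
    subst h1
    rw [wordProd_cons]
    rcases ih fun k hk => hω k (by simp [hk]) with h2 | h2
    · right; rw [h2, mul_one]
    · left; rw [h2, cs.simple_mul_simple_self]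

/-- the elements of `P_i` -/
theorem mem_Pi (i : I) {g : Y} : g ∈ PJ cs h T X {i} ↔
    g ∈ RGD.B cs h T X ∨ ∃ x ∈ X (sr i), ∃ b ∈ RGD.B cs h T X, g = x * n i * b := by
  constructor
  · intro hg
    obtain ⟨w, hw, b₁, hb₁, k, hk, b₂, hb₂, rfl⟩ := (mem_PJ_iff_cell R).1 hg
    rcases WJ_singleton hw with rfl | rfl
    · exact Or.inl (mul_mem (mul_mem hb₁ (RGD.T_le_B hk.mem_of_one)) hb₂)
    · right
      obtain ⟨x, hx, c, hc, e⟩ := exists_mul_n R i hb₁
      have h1 : (n i)⁻¹ * k ∈ T := (rp_simple cs R.nsys i).unique hk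
      refine ⟨x, hx, c * ((n i)⁻¹ * k) * b₂, mul_mem (mul_mem hc (RGD.T_le_B h1)) hb₂, ?_⟩
      calc b₁ * k * b₂ = (b₁ * n i) * ((n i)⁻¹ * k) * b₂ := by group
        _ = x * n i * (c * ((n i)⁻¹ * k) * b₂) := by rw [e]; group
  · rintro (hg | ⟨x, hx, b, hb, rfl⟩)
    · exact B_le_PJ hg
    · exact mul_mem (mul_mem (B_le_PJ (X_le_B' R i hx)) (LJ_le_PJ (n_mem_LJ R rfl))) (B_le_PJ hb)

/-- `|P_i| = (1 + q_i) |B|` -/
theorem card_Pi [Finite Y] (i : I) : Nat.card (PJ cs h T X {i}) = (1 + qq X i) * Nat.card (RGD.B cs h T X) := by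
  classical
  have hn := n_not_mem_B R i
  let f : RGD.B cs h T X ⊕ (X (sr i) × RGD.B cs h T X) → PJ cs h T X {i} := fun z => match z with
    | Sum.inl b => ⟨b, (mem_Pi R i).2 (Or.inl b.2)⟩
    | Sum.inr (x, b) => ⟨x * n i * b, (mem_Pi R i).2 (Or.inr ⟨x, x.2, b, b.2, rfl⟩)⟩
  have hnot : ∀ (x : X (sr i)) (b : RGD.B cs h T X), (x : Y) * n i * b ∉ RGD.B cs h T X := by
    intro x b hxb
    apply hn
    have : n i = (x : Y)⁻¹ * ((x : Y) * n i * b) * (b : Y)⁻¹ := by group
    rw [this]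
    exact mul_mem (mul_mem (inv_mem (X_le_B' R i x.2)) hxb) (inv_mem b.2)
  have hf : Function.Bijective f := by
    constructor
    · rintro (b | ⟨x, b⟩) (b' | ⟨x', b'⟩) e
      · have e1 : (b : Y) = b' := congrArg (fun z : PJ cs h T X {i} => (z : Y)) e
        exact congrArg Sum.inl (Subtype.ext e1)
      · exfalso
        have e1 : (b : Y) = x' * n i * b' := congrArg (fun z : PJ cs h T X {i} => (z : Y)) e
        exact hnot x' b' (by rw [← e1]; exact b.2)
      · exfalso
        have e1 : (x : Y) * n i * b = b' := congrArg (fun z : PJ cs h T X {i} => (z : Y)) e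
        exact hnot x b (by rw [e1]; exact b'.2)
      · have e1 : (x : Y) * n i * b = x' * n i * b' := congrArg (fun z : PJ cs h T X {i} => (z : Y)) e
        obtain ⟨h1, h2⟩ := mul_n_inj R i x.2 x'.2 b.2 b'.2 e1
        rw [Subtype.ext h1, Subtype.ext h2]
    · rintro ⟨g, hg⟩
      rcases (mem_Pi R i).1 hg with h1 | ⟨x, hx, b, hb, rfl⟩
      · exact ⟨Sum.inl ⟨g, h1⟩, rfl⟩
      · exact ⟨Sum.inr (⟨x, hx⟩, ⟨b, hb⟩), rfl⟩
  rw [← Nat.card_congr (Equiv.ofBijective f hf), Nat.card_sum, Nat.card_prod, add_mul, one_mul]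
  rfl

end card

/-! ### the operators -/

section ops

variable {V : Type v} [AddCommGroup V] [Module ℂ V]

/-- `V^B` -/
def VB (cs : CoxeterSystem M W) (h : IsCartan M A) (T : Subgroup Y) (X : (I → ℤ) → Subgroup Y)
    (ρ : Representation ℂ Y V) : Submodule ℂ V := fx ρ (RGD.B cs h T X)

variable [Finite Y]

/-- `p_B n_i` on `V^B` -/
noncomputable def tau (cs : CoxeterSystem M W) (h : IsCartan M A) (T : Subgroup Y) (n : I → Y)
    (X : (I → ℤ) → Subgroup Y) (ρ : Representation ℂ Y V) (i : I) : Module.End ℂ (VB cs h T X ρ) where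
  toFun v := ⟨av ρ (RGD.B cs h T X) (ρ (n i) v), av_mem _ _ _⟩
  map_add' v w := Subtype.ext (by
    change av ρ _ (ρ (n i) ((v : V) + w)) = _
    rw [map_add, map_add]; rfl)
  map_smul' c v := Subtype.ext (by
    change av ρ _ (ρ (n i) (c • (v : V))) = _
    rw [map_smul, map_smul]; rfl)

/-- the operators of the Hecke algebra -/
noncomputable def TE (cs : CoxeterSystem M W) (h : IsCartan M A) (T : Subgroup Y) (n : I → Y)
    (X : (I → ℤ) → Subgroup Y) (ρ : Representation ℂ Y V) (i : I) : Module.End ℂ (VB cs h T X ρ) :=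
  (qq X i : ℂ) • tau cs h T n X ρ i

theorem coe_tau {ρ : Representation ℂ Y V} (i : I) (v : VB cs h T X ρ) :
    (tau cs h T n X ρ i v : V) = av ρ (RGD.B cs h T X) (ρ (n i) v) := rfl

theorem coe_TE {ρ : Representation ℂ Y V} (i : I) (v : VB cs h T X ρ) :
    (TE cs h T n X ρ i v : V) = (qq X i : ℂ) • av ρ (RGD.B cs h T X) (ρ (n i) v) := rfl

end ops

section main

variable (R : RGD cs h p T n X) [Finite W] [Finite Y] {V : Type v} [AddCommGroup V] [Module ℂ V]
  {ρ : Representation ℂ Y V}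

include R

/-- `T_i = (1 + q_i) p_{P_i} - 1` -/
theorem TE_eq (i : I) (v : VB cs h T X ρ) :
    (TE cs h T n X ρ i v : V) = (1 + qq X i : ℂ) • av ρ (PJ cs h T X {i}) v - v := by
  classical
  set B := RGD.B cs h T X with hB
  set P := PJ cs h T X {i} with hP
  let _ : Fintype P := Fintype.ofFinite P
  have hBP : B ≤ P := B_le_PJ
  have hv : ∀ b ∈ B, ρ b (v : V) = v := fun b hb => v.2 b hb
  -- `av_P v = av_B (av_P v)`
  have h1 : av ρ P (v : V) = av ρ B (av ρ P v) := (av_of_mem (fx_mono hBP (av_mem ρ P v))).symm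
  have h2 : ∀ g : P, av ρ B (ρ g v) = if (g : Y) ∈ B then (v : V) else av ρ B (ρ (n i) v) := by
    intro g
    rcases (mem_Pi R i).1 g.2 with h3 | ⟨x, hx, b, hb, e⟩
    · rw [if_pos h3, hv _ h3]
      exact av_of_mem v.2
    · rw [if_neg, e, map_mul, map_mul, Module.End.mul_apply, Module.End.mul_apply, hv b hb,
        av_rho ρ (X_le_B' R i hx)]
      rw [e]
      intro hxb
      apply n_not_mem_B R i
      have : n i = x⁻¹ * (x * n i * b) * b⁻¹ := by group
      rw [this]
      exact mul_mem (mul_mem (inv_mem (X_le_B' R i hx)) hxb) (inv_mem hb)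
  have hc1 : (Finset.univ.filter fun g : P => (g : Y) ∈ B).card = Nat.card B := by
    rw [← Fintype.card_subtype, ← Nat.card_eq_fintype_card]
    exact Nat.card_congr ⟨fun g => ⟨g.1.1, g.2⟩, fun b => ⟨⟨b.1, hBP b.2⟩, b.2⟩, fun _ => rfl, fun _ => rfl⟩
  have hc2 : (Finset.univ.filter fun g : P => ¬ (g : Y) ∈ B).card = qq X i * Nat.card B := by
    have h3 := Finset.card_filter_add_card_filter_not (s := (Finset.univ : Finset P)) (fun g : P => (g : Y) ∈ B)
    rw [hc1, Finset.card_univ, ← Nat.card_eq_fintype_card, card_Pi R i, add_mul, one_mul] at h3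
    exact Nat.add_left_cancel h3
  have h3 : av ρ P (v : V) = (Nat.card P : ℂ)⁻¹ • ((Nat.card B : ℂ) • (v : V) +
      ((qq X i * Nat.card B : ℕ) : ℂ) • av ρ B (ρ (n i) v)) := by
    rw [h1, av_apply ρ P, map_smul, map_sum, Finset.sum_congr rfl fun g _ => h2 g, Finset.sum_ite, Finset.sum_const,
      Finset.sum_const, hc1, hc2, ← Nat.cast_smul_eq_nsmul ℂ, ← Nat.cast_smul_eq_nsmul ℂ]
  have hB0 : (Nat.card B : ℂ) ≠ 0 := card_ne B
  have hq0 : (1 + qq X i : ℂ) ≠ 0 := by
    have : ((1 + qq X i : ℕ) : ℂ) ≠ 0 := Nat.cast_ne_zero.2 (by omega)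
    simpa using this
  rw [coe_TE, h3, hP, card_Pi R i, smul_smul]
  push_cast
  rw [← hB, show (1 + (qq X i : ℂ)) * ((1 + (qq X i : ℂ)) * (Nat.card B : ℂ))⁻¹ = (Nat.card B : ℂ)⁻¹ by
    rw [mul_inv, ← mul_assoc, mul_inv_cancel₀ hq0, one_mul], smul_add, smul_smul, smul_smul,
    inv_mul_cancel₀ hB0, one_smul, show (Nat.card B : ℂ)⁻¹ * ((qq X i : ℂ) * Nat.card B) = qq X i by
    rw [mul_comm, mul_assoc, mul_inv_cancel₀ hB0, mul_one], add_sub_cancel_left]

theorem av_Pi_mem (i : I) (v : V) : av ρ (PJ cs h T X {i}) v ∈ VB cs h T X ρ := fx_mono B_le_PJ (av_mem ρ _ v)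

/-- `v ∈ V^{P_i}` iff `T_i v = q_i v` -/
theorem TE_eq_iff (i : I) (v : VB cs h T X ρ) :
    TE cs h T n X ρ i v = (qq X i : ℂ) • v ↔ (v : V) ∈ fx ρ (PJ cs h T X {i}) := by
  have hq0 : (1 + qq X i : ℂ) ≠ 0 := by
    have : ((1 + qq X i : ℕ) : ℂ) ≠ 0 := Nat.cast_ne_zero.2 (by omega)
    simpa using this
  rw [← Subtype.coe_inj, TE_eq R, Submodule.coe_smul]
  constructor
  · intro h1
    have h2 : (1 + qq X i : ℂ) • av ρ (PJ cs h T X {i}) v = (1 + qq X i : ℂ) • (v : V) := by
      rw [sub_eq_iff_eq_add] at h1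
      rw [h1, add_smul, one_smul, add_comm]
    have h3 := smul_right_injective V hq0 h2
    rw [← h3]
    exact av_mem _ _ _
  · intro h1
    rw [av_of_mem h1, add_smul, one_smul, add_sub_cancel_left]

/-- the quadratic relation -/
theorem quad (i : I) : Quad (TE cs h T n X ρ i) (qq X i) := by
  ext v
  rw [Module.End.mul_apply, LinearMap.zero_apply, LinearMap.sub_apply, LinearMap.add_apply, LinearMap.smul_apply,
    Module.End.one_apply, Module.End.one_apply, sub_eq_zero.2]
  rw [TE_eq_iff R]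
  have h1 : ((TE cs h T n X ρ i v + v : VB cs h T X ρ) : V) = (1 + qq X i : ℂ) • av ρ (PJ cs h T X {i}) v := by
    rw [Submodule.coe_add, TE_eq R, sub_add_cancel]
  rw [h1]
  exact Submodule.smul_mem _ _ (av_mem _ _ _)

/-- the fixed vectors of the parabolic subgroups -/
theorem mem_fx_PJ {K : Set I} (v : VB cs h T X ρ) :
    (v : V) ∈ fx ρ (PJ cs h T X K) ↔ ∀ i ∈ K, TE cs h T n X ρ i v = (qq X i : ℂ) • v := by
  constructor
  · intro h1 i hi
    rw [TE_eq_iff R]
    refine fx_mono ?_ h1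
    intro g hg
    obtain ⟨w, hw, hc⟩ := (mem_PJ_iff_cell R).1 hg
    refine (mem_PJ_iff_cell R).2 ⟨w, ?_, hc⟩
    rcases WJ_singleton hw with rfl | rfl
    · exact one_mem _
    · exact simple_mem_WJ cs hi
  · intro h1
    have hn : ∀ i ∈ K, ρ (n i) (v : V) = v := fun i hi =>
      ((TE_eq_iff R i v).1 (h1 i hi)) (n i) (LJ_le_PJ (n_mem_LJ R rfl))
    have hk : ∀ ω : List I, (∀ i ∈ ω, i ∈ K) → ∀ g, Rp cs R.nsys (cs.wordProd ω) g → ρ g (v : V) = v := by
      intro ω
      induction ω with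
      | nil =>
        intro _ g hg
        rw [wordProd_nil] at hg
        exact v.2 g (RGD.T_le_B hg.mem_of_one)
      | cons i ω ih =>
        intro hω g hg
        rw [wordProd_cons] at hg
        have h2 : Rp cs R.nsys (cs.wordProd ω) ((n i)⁻¹ * g) := by
          have := (rp_simple cs R.nsys i).inv.mul hg
          rwa [inv_mul_cancel_left] at this
        have h3 := ih (fun j hj => hω j (by simp [hj])) _ h2
        calc ρ g (v : V) = ρ (n i * ((n i)⁻¹ * g)) v := by rw [mul_inv_cancel_left]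
          _ = v := by rw [map_mul, Module.End.mul_apply, h3, hn i (hω i (by simp))]
    intro g hg
    obtain ⟨w, hw, b₁, hb₁, k, hk', b₂, hb₂, rfl⟩ := (mem_PJ_iff_cell R).1 hg
    obtain ⟨ω, hω, rfl⟩ := exists_word_of_mem_WJ cs hw
    rw [map_mul, map_mul, Module.End.mul_apply, Module.End.mul_apply, v.2 b₂ hb₂, hk ω hω k hk', v.2 b₁ hb₁]

/-- the step -/
theorem tau_rep {i : I} {w : W} {g : Y} (hg : Rp cs R.nsys w g) (hw : 0 ≤ rep cs h w⁻¹ (sr i)) (v : VB cs h T X ρ) :
    av ρ (RGD.B cs h T X) (ρ (n i) (av ρ (RGD.B cs h T X) (ρ g v))) = av ρ (RGD.B cs h T X) (ρ (n i * g) v) := by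
  have hvU : (v : V) ∈ VU cs h X ρ := fx_mono RGD.U_le_B v.2
  have h1 := rho_fx_X R hg (isRoot_sr cs h i) hw hvU
  have h2 := el_n (ρ := ρ) R (i := i) (l := 1) (l' := 1) (fun _ _ _ _ _ => rfl) h1
  have h3 : lamB R (1 : T →* ℂˣ) = 1 := by
    unfold lamB
    exact MonoidHom.one_comp _
  rw [h3] at h2
  rw [map_mul, Module.End.mul_apply]
  exact h2

/-- the product of the `tau`'s along a word -/
noncomputable def opw (cs : CoxeterSystem M W) (h : IsCartan M A) (T : Subgroup Y) (n : I → Y)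
    (X : (I → ℤ) → Subgroup Y) (ρ : Representation ℂ Y V) (ω : List I) : Module.End ℂ (VB cs h T X ρ) :=
  (ω.map (tau cs h T n X ρ)).prod

omit R [Finite W] [Finite Y] [Fintype I] [DecidableEq I] in
theorem alt_inv (i j : I) (k : ℕ) : (cs.wordProd (alternatingWord i j k))⁻¹ =
    cs.wordProd (alternatingWord (if Even k then j else i) (if Even k then i else j) k) := by
  induction k with
  | zero => simp [alternatingWord]
  | succ k ih =>
    rw [alternatingWord_succ', wordProd_cons, mul_inv_rev, ih, cs.inv_simple]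
    by_cases hk : Even k
    · have hk' : ¬ Even (k + 1) := by rwa [Nat.even_add_one, not_not]
      rw [if_pos hk, if_pos hk, if_neg hk', if_neg hk']
      change _ = cs.wordProd ((alternatingWord j i k).concat j)
      rw [wordProd_concat]
    · have hk' : Even (k + 1) := by rwa [Nat.even_add_one]
      rw [if_neg hk, if_neg hk, if_pos hk', if_pos hk']
      change _ = cs.wordProd ((alternatingWord i j k).concat i)
      rw [wordProd_concat]

/-- the operators of alternating words -/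
theorem opw_alt {i j : I} (hij : i ≠ j) : ∀ k ≤ M i j, ∀ (g : Y), Rp cs R.nsys (cs.wordProd (alternatingWord i j k)) g →
    ∀ v : VB cs h T X ρ, (opw cs h T n X ρ (alternatingWord i j k) v : V) = av ρ (RGD.B cs h T X) (ρ g v) := by
  intro k
  induction k with
  | zero =>
    intro _ g hg v
    change (v : V) = _
    have h1 : alternatingWord i j 0 = [] := rfl
    rw [h1, wordProd_nil] at hg
    rw [v.2 g (RGD.T_le_B hg.mem_of_one)]
    exact (av_of_mem v.2).symm
  | succ k ih =>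
    intro hk g hg v
    rw [alternatingWord_succ'] at hg ⊢
    rw [wordProd_cons] at hg
    set x := (if Even k then j else i) with hx
    have h2 : Rp cs R.nsys (cs.wordProd (alternatingWord i j k)) ((n x)⁻¹ * g) := by
      have := (rp_simple cs R.nsys x).inv.mul hg
      rwa [inv_mul_cancel_left] at this
    have h3 : 0 ≤ rep cs h (cs.wordProd (alternatingWord i j k))⁻¹ (sr x) := by
      rw [alt_inv]
      by_cases he : Even k
      · rw [if_pos he, if_pos he, hx, if_pos he]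
        obtain ⟨a, b, ha, hb, e⟩ := exists_nonneg (cs := cs) (h := h) j i hij.symm k (by rw [M.symmetric]; omega)
        change 0 ≤ rep cs h _ (Pi.single j 1)
        rw [e]
        exact add_nonneg (Pi.single_nonneg.2 ha) (Pi.single_nonneg.2 hb)
      · rw [if_neg he, if_neg he, hx, if_neg he]
        obtain ⟨a, b, ha, hb, e⟩ := exists_nonneg (cs := cs) (h := h) i j hij k (by omega)
        change 0 ≤ rep cs h _ (Pi.single i 1)
        rw [e]
        exact add_nonneg (Pi.single_nonneg.2 ha) (Pi.single_nonneg.2 hb)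
    have h4 : opw cs h T n X ρ (x :: alternatingWord i j k) v =
        tau cs h T n X ρ x (opw cs h T n X ρ (alternatingWord i j k) v) := by
      unfold opw
      rw [List.map_cons, List.prod_cons, Module.End.mul_apply]
    rw [h4, coe_tau, ih (by omega) _ h2 v, tau_rep R h2 h3, mul_inv_cancel_left]

/-- the braid relations -/
theorem opw_braid {i j : I} (hij : i ≠ j) :
    opw cs h T n X ρ (alternatingWord i j (M i j)) = opw cs h T n X ρ (alternatingWord j i (M i j)) := by
  ext v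
  obtain ⟨g, hg⟩ := exists_rp cs R.nsys (cs.wordProd (alternatingWord i j (M i j)))
  have h1 : cs.wordProd (alternatingWord i j (M i j)) = cs.wordProd (alternatingWord j i (M i j)) := by
    have := cs.wordProd_braidWord_eq i j
    unfold braidWord at this
    rwa [M.symmetric j i] at this
  rw [opw_alt R hij _ le_rfl g hg v, opw_alt R hij.symm _ (by rw [M.symmetric]) g (by rw [← h1]; exact hg) v]

omit R [Finite W] in
theorem TE_eq_smul (i : I) : TE cs h T n X ρ i = (qq X i : ℂ) • tau cs h T n X ρ i := rfl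

theorem comm_two {i j : I} (hm : M i j = 2) :
    TE cs h T n X ρ i * TE cs h T n X ρ j = TE cs h T n X ρ j * TE cs h T n X ρ i := by
  have hij : i ≠ j := fun e => by rw [e, M.diagonal] at hm; omega
  have h1 := opw_braid (ρ := ρ) R hij
  rw [hm] at h1
  have h2 : ∀ a b : I, opw cs h T n X ρ (alternatingWord a b 2) = tau cs h T n X ρ a * tau cs h T n X ρ b := by
    intro a b
    have : alternatingWord a b 2 = [a, b] := rfl
    rw [this]
    unfold opw
    rw [List.map_cons, List.map_cons, List.map_nil, List.prod_cons, List.prod_cons, List.prod_nil, mul_one]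
  rw [h2, h2] at h1
  simp only [TE_eq_smul, smul_mul_smul_comm, h1, mul_comm (qq X i : ℂ)]

/-- conjugate root groups have the same order -/
theorem qq_eq_of_rep {i j : I} {w : W} (hw : rep cs h w (sr i) = sr j) : qq X i = qq X j := by
  obtain ⟨g, hg⟩ := exists_rp cs R.nsys w
  have h1 := R.conj_rp hg (isRoot_sr cs h i)
  unfold qq
  rw [← hw, ← h1]
  exact Nat.card_congr ((X (sr i)).equivMapOfInjective _ (MulAut.conj g).injective).toEquiv

theorem qq_eq {i j : I} (hm : M i j = 3) : qq X i = qq X j := by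
  have hij : i ≠ j := fun e => by rw [e, M.diagonal] at hm; omega
  have hA := h.rel i j hij
  have hA1 : A i j = -1 ∧ A j i = -1 := by
    rcases hA with ⟨h1, -⟩ | ⟨-, h1⟩ | ⟨h1, -⟩ | ⟨h1, -⟩
    · omega
    · exact h1
    · omega
    · omega
  refine qq_eq_of_rep R (w := cs.simple i * cs.simple j) ?_
  have e1 : rep cs h (cs.simple j) (sr i) = sr i + sr j := by
    rw [rep_simple_eq]
    have : pairing A j (sr i) = -1 := by
      change pairing A j (Pi.single i 1) = -1
      rw [pairing_single, hA1.2]; norm_num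
    rw [this]
    simp [sr]
  have e2 : rep cs h (cs.simple i) (sr j) = sr j + sr i := by
    rw [rep_simple_eq]
    have : pairing A i (sr j) = -1 := by
      change pairing A i (Pi.single j 1) = -1
      rw [pairing_single, hA1.1]; norm_num
    rw [this]
    simp [sr]
  rw [rep_mul_apply, e1, map_add, e2, rep_simple_sr]
  abel

theorem braid_three {i j : I} (hm : M i j = 3) :
    TE cs h T n X ρ i * TE cs h T n X ρ j * TE cs h T n X ρ i = TE cs h T n X ρ j * TE cs h T n X ρ i * TE cs h T n X ρ j := by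
  have hij : i ≠ j := fun e => by rw [e, M.diagonal] at hm; omega
  have h1 := opw_braid (ρ := ρ) R hij
  rw [hm] at h1
  have h2 : ∀ a b : I, opw cs h T n X ρ (alternatingWord a b 3) =
      tau cs h T n X ρ b * tau cs h T n X ρ a * tau cs h T n X ρ b := by
    intro a b
    have : alternatingWord a b 3 = [b, a, b] := rfl
    rw [this]
    unfold opw
    rw [List.map_cons, List.map_cons, List.map_cons, List.map_nil, List.prod_cons, List.prod_cons, List.prod_cons,
      List.prod_nil, mul_one, mul_assoc]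
  rw [h2, h2] at h1
  simp only [TE_eq_smul, smul_mul_smul_comm, h1, qq_eq R hm]

theorem braid_four {i j : I} (hm : M i j = 4) :
    TE cs h T n X ρ i * TE cs h T n X ρ j * TE cs h T n X ρ i * TE cs h T n X ρ j =
      TE cs h T n X ρ j * TE cs h T n X ρ i * TE cs h T n X ρ j * TE cs h T n X ρ i := by
  have hij : i ≠ j := fun e => by rw [e, M.diagonal] at hm; omega
  have h1 := opw_braid (ρ := ρ) R hij
  rw [hm] at h1
  have h2 : ∀ a b : I, opw cs h T n X ρ (alternatingWord a b 4) =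
      tau cs h T n X ρ a * tau cs h T n X ρ b * tau cs h T n X ρ a * tau cs h T n X ρ b := by
    intro a b
    have : alternatingWord a b 4 = [a, b, a, b] := rfl
    rw [this]
    unfold opw
    rw [List.map_cons, List.map_cons, List.map_cons, List.map_cons, List.map_nil, List.prod_cons, List.prod_cons,
      List.prod_cons, List.prod_cons, List.prod_nil, mul_one, mul_assoc, mul_assoc]
  rw [h2, h2] at h1
  simp only [TE_eq_smul, smul_mul_smul_comm, h1]
  congr 1
  ring

omit R [Finite W] [Finite Y] in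
/-- the subrepresentation generated by a subspace -/
theorem span_eq_top (hρ : ρ.IsIrreducible) {S : Submodule ℂ V} (h0 : S ≠ ⊥) :
    Submodule.span ℂ {x | ∃ g : Y, ∃ v ∈ S, x = ρ g v} = ⊤ := by
  let Z : Subrepresentation ρ :=
    { toSubmodule := Submodule.span ℂ {x | ∃ g : Y, ∃ v ∈ S, x = ρ g v}
      apply_mem_toSubmodule := fun g v hv => by
        refine Submodule.span_induction (p := fun v _ => ρ g v ∈ Submodule.span ℂ {x | ∃ g : Y, ∃ v ∈ S, x = ρ g v})
          ?_ ?_ ?_ ?_ hv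
        · rintro _ ⟨k, v, hv, rfl⟩
          refine Submodule.subset_span ⟨g * k, v, hv, ?_⟩
          rw [map_mul, Module.End.mul_apply]
        · rw [map_zero]
          exact Submodule.zero_mem _
        · intro x y _ _ hx hy
          rw [map_add]
          exact Submodule.add_mem _ hx hy
        · intro a x _ hx
          rw [map_smul]
          exact Submodule.smul_mem _ _ hx }
  change Z.toSubmodule = ⊤
  rcases hρ.2 Z with h1 | h1
  · exfalso
    apply h0
    rw [eq_bot_iff]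
    intro v hv
    have h2 : v ∈ Z.toSubmodule := Submodule.subset_span ⟨1, v, hv, by rw [map_one, Module.End.one_apply]⟩
    rw [h1] at h2
    exact h2
  · rw [h1]
    rfl

/-- `V^B` is an irreducible module of the Hecke algebra -/
theorem irr (hG : GG cs h T X = ⊤) (hρ : ρ.IsIrreducible) (S : Submodule ℂ (VB cs h T X ρ))
    (hS : ∀ i, ∀ v ∈ S, TE cs h T n X ρ i v ∈ S) : S = ⊥ ∨ S = ⊤ := by
  by_cases h0 : S = ⊥
  · exact Or.inl h0
  right
  have hq : ∀ i, (qq X i : ℂ) ≠ 0 := fun i => card_ne _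
  have htau : ∀ i, ∀ v ∈ S, tau cs h T n X ρ i v ∈ S := by
    intro i v hv
    have h1 := S.smul_mem (qq X i : ℂ)⁻¹ (hS i v hv)
    rwa [TE_eq_smul, LinearMap.smul_apply, smul_smul, inv_mul_cancel₀ (hq i), one_smul] at h1
  -- all representatives
  have hw : ∀ (w : W) (g : Y), Rp cs R.nsys w g → ∀ v ∈ S,
      ∃ s ∈ S, av ρ (RGD.B cs h T X) (ρ g (v : VB cs h T X ρ)) = (s : V) := by
    intro w
    induction hn : cs.length w using Nat.strong_induction_on generalizing w with
    | _ N ih =>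
    intro g hg v hv
    by_cases hw1 : w = 1
    · subst hw1
      refine ⟨v, hv, ?_⟩
      rw [v.2 g (RGD.T_le_B hg.mem_of_one)]
      exact av_of_mem v.2
    obtain ⟨i, hi⟩ := cs.exists_leftDescent_of_ne_one hw1
    have hi' : cs.length (cs.simple i * w) < cs.length w := hi
    have h2 : Rp cs R.nsys (cs.simple i * w) ((n i)⁻¹ * g) := by
      have := (rp_simple cs R.nsys i).inv.mul hg
      rwa [cs.inv_simple] at this
    obtain ⟨s, hs, e⟩ := ih _ (hn ▸ hi') (cs.simple i * w) rfl _ h2 v hv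
    have h3 : 0 ≤ rep cs h (cs.simple i * w)⁻¹ (sr i) := by
      refine nonneg_of_lt cs h _ i ?_
      rw [mul_inv_rev, cs.inv_simple, mul_assoc, cs.simple_mul_simple_self, mul_one,
        ← cs.length_inv (w⁻¹ * cs.simple i), mul_inv_rev, cs.inv_simple, inv_inv, cs.length_inv]
      exact hi'
    refine ⟨_, htau i s hs, ?_⟩
    rw [coe_tau, ← e, tau_rep R h2 h3, mul_inv_cancel_left]
  have h1 := span_eq_top hρ (S := S.map (VB cs h T X ρ).subtype) (by
    intro hb
    apply h0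
    rw [eq_bot_iff]
    intro v hv
    have h9 : (v : V) ∈ S.map (VB cs h T X ρ).subtype := ⟨v, hv, rfl⟩
    rw [hb, Submodule.mem_bot] at h9
    exact (Submodule.mem_bot ℂ).2 (Subtype.ext h9))
  rw [eq_top_iff]
  intro x _
  have h2 : (x : V) ∈ Submodule.span ℂ {x | ∃ g : Y, ∃ v ∈ S.map (VB cs h T X ρ).subtype, x = ρ g v} := by
    rw [h1]; exact Submodule.mem_top
  have h3 : av ρ (RGD.B cs h T X) (x : V) ∈ S.map (VB cs h T X ρ).subtype := by
    refine Submodule.span_induction (p := fun x _ => av ρ (RGD.B cs h T X) x ∈ S.map (VB cs h T X ρ).subtype)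
      ?_ ?_ ?_ ?_ h2
    · rintro _ ⟨g, _, ⟨v, hv, rfl⟩, rfl⟩
      obtain ⟨w, b₁, hb₁, k, hk, b₂, hb₂, rfl⟩ := (mem_GG R).1 (show g ∈ GG cs h T X by rw [hG]; exact Subgroup.mem_top g)
      obtain ⟨s, hs, e⟩ := hw w k hk v hv
      refine ⟨s, hs, ?_⟩
      change (s : V) = av ρ _ (ρ (b₁ * k * b₂) (v : V))
      rw [map_mul, map_mul, Module.End.mul_apply, Module.End.mul_apply, v.2 b₂ hb₂, av_rho ρ hb₁, e]
    · rw [map_zero]; exact Submodule.zero_mem _
    · intro x y _ _ hx hy; rw [map_add]; exact Submodule.add_mem _ hx hy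
    · intro a x _ hx; rw [map_smul]; exact Submodule.smul_mem _ _ hx
  rw [av_of_mem x.2] at h3
  obtain ⟨s, hs, e⟩ := h3
  have : s = x := Subtype.ext e
  rwa [this] at hs

/-- `V^U = V^B` if `V^B ≠ 0` -/
theorem VU_eq (hG : GG cs h T X = ⊤) (hρ : ρ.IsIrreducible) (h0 : VB cs h T X ρ ≠ ⊥) :
    VU cs h X ρ = VB cs h T X ρ := by
  classical
  refine le_antisymm ?_ (fx_mono RGD.U_le_B)
  -- the part of `V^U` without fixed vectors of `T`
  let S : Submodule ℂ V := VU cs h X ρ ⊓ LinearMap.ker (av ρ T)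
  have hSB : ∀ b ∈ RGD.B cs h T X, ∀ v ∈ S, ρ b v ∈ S := by
    rintro b hb v ⟨h1, h2⟩
    refine ⟨rho_VU R hb h1, ?_⟩
    obtain ⟨t, ht, u, hu, rfl⟩ := R.mem_B.1 hb
    rw [map_mul, Module.End.mul_apply, h1 u hu]
    change av ρ T (ρ t v) = 0
    rw [av_rho ρ ht]
    exact h2
  have hS0 : S = ⊥ := by
    by_contra hne
    apply h0
    have h1 := span_eq_top hρ hne
    rw [eq_bot_iff]
    intro x hx
    have h2 : x ∈ Submodule.span ℂ {x | ∃ g : Y, ∃ v ∈ S, x = ρ g v} := by rw [h1]; exact Submodule.mem_top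
    have h3 : av ρ (RGD.B cs h T X) x = 0 := by
      refine Submodule.span_induction (p := fun x _ => av ρ (RGD.B cs h T X) x = 0) ?_ ?_ ?_ ?_ h2
      · rintro _ ⟨g, v, hv, rfl⟩
        obtain ⟨w, b₁, hb₁, k, hk, b₂, hb₂, rfl⟩ := (mem_GG R).1 (show g ∈ GG cs h T X by rw [hG]; exact Subgroup.mem_top g)
        rw [map_mul, map_mul, Module.End.mul_apply, Module.End.mul_apply, av_rho ρ hb₁]
        obtain ⟨h4, h5⟩ := hSB b₂ hb₂ v hv
        set y := ρ b₂ v
        -- `av_B = av_B av_T`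
        have h6 : av ρ (RGD.B cs h T X) (ρ k y) = av ρ (RGD.B cs h T X) (av ρ T (ρ k y)) := by
          let _ : Fintype T := Fintype.ofFinite T
          rw [av_apply ρ T, map_smul, map_sum, Finset.sum_congr rfl fun x _ => av_rho ρ (RGD.T_le_B x.2) _,
            Finset.sum_const, Finset.card_univ, ← Nat.card_eq_fintype_card, ← Nat.cast_smul_eq_nsmul ℂ, smul_smul,
            inv_mul_cancel₀ (card_ne T), one_smul]
        rw [h6, ← rho_av_conj ρ (fun x => Subgroup.mem_normalizer_iff.1 hk.mem_normalizer x), LinearMap.mem_ker.1 h5,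
          map_zero, map_zero]
      · exact map_zero _
      · intro x y _ _ hx hy; rw [map_add, hx, hy, add_zero]
      · intro a x _ hx; rw [map_smul, hx, smul_zero]
    rw [av_of_mem hx] at h3
    exact h3
  intro v hv
  have h1 : v - av ρ T v ∈ S := by
    refine ⟨Submodule.sub_mem _ hv ?_, ?_⟩
    · intro u hu
      have h2 : u ∈ RGD.Sup X (RGD.Pos cs h) := hu
      let _ : Fintype T := Fintype.ofFinite T
      rw [av_apply, map_smul, map_sum]
      congr 1
      refine Finset.sum_congr rfl fun t _ => ?_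
      exact rho_VU R (RGD.T_le_B t.2) hv u hu
    · change av ρ T (v - av ρ T v) = 0
      rw [map_sub, av_idem, sub_self]
  rw [hS0, Submodule.mem_bot, sub_eq_zero] at h1
  intro b hb
  obtain ⟨t, ht, u, hu, rfl⟩ := R.mem_B.1 hb
  rw [map_mul, Module.End.mul_apply, hv u hu, h1]
  exact rho_av ρ ht v

/-- the eigenspaces are the spaces of fixed vectors of `P_i` -/
theorem finrank_Fq [FiniteDimensional ℂ V] (i : I) :
    finrank ℂ (Fq (TE cs h T n X ρ i) (qq X i)) = finrank ℂ (fx ρ (PJ cs h T X {i})) := by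
  refine LinearEquiv.finrank_eq ?_
  refine LinearEquiv.ofBijective
    ({ toFun := fun v => ⟨v.1, (TE_eq_iff R i v.1).1 (mem_Fq.1 v.2)⟩
       map_add' := fun _ _ => rfl
       map_smul' := fun _ _ => rfl } : Fq (TE cs h T n X ρ i) (qq X i) →ₗ[ℂ] fx ρ (PJ cs h T X {i})) ⟨?_, ?_⟩
  · intro v w e
    exact Subtype.ext (Subtype.ext (congrArg (fun z : fx ρ (PJ cs h T X {i}) => (z : V)) e))
  · rintro ⟨v, hv⟩
    exact ⟨⟨⟨v, fx_mono B_le_PJ hv⟩, mem_Fq.2 ((TE_eq_iff R i _).2 hv)⟩, rfl⟩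

/-- common eigenvectors -/
theorem inf_eq_bot_iff (i j : I) : Fq (TE cs h T n X ρ i) (qq X i) ⊓ Fq (TE cs h T n X ρ j) (qq X j) = ⊥ ↔
    fx ρ (PJ cs h T X {i, j}) = ⊥ := by
  constructor
  · intro h1
    rw [eq_bot_iff]
    intro v hv
    have h2 := (mem_fx_PJ R (K := {i, j}) (⟨v, fx_mono B_le_PJ hv⟩ : VB cs h T X ρ)).1 hv
    have h3 : (⟨v, fx_mono B_le_PJ hv⟩ : VB cs h T X ρ) ∈ Fq (TE cs h T n X ρ i) (qq X i) ⊓ Fq (TE cs h T n X ρ j) (qq X j) :=
      ⟨mem_Fq.2 (h2 i (by simp)), mem_Fq.2 (h2 j (by simp))⟩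
    rw [h1, Submodule.mem_bot] at h3
    exact congrArg Subtype.val h3
  · intro h1
    rw [eq_bot_iff]
    rintro v ⟨h2, h3⟩
    have h4 : (v : V) ∈ fx ρ (PJ cs h T X {i, j}) := by
      rw [mem_fx_PJ R]
      intro k hk
      rcases hk with rfl | hk
      · exact mem_Fq.1 h2
      · rw [Set.mem_singleton_iff] at hk
        subst hk
        exact mem_Fq.1 h3
    rw [h1, Submodule.mem_bot] at h4
    exact (Submodule.mem_bot ℂ).2 (Subtype.ext h4)

end main

end Cfsg.Agent.H200.VZ
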